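import Mathlib.RingTheory.Ideal.Pure
import Mathlib.RingTheory.Spectrum.Prime.FreeLocus
import Mathlib.RingTheory.Flat.EquationalCriterion
import Mathlib.RingTheory.Localization.Finiteness
import Mathlib.RingTheory.Spectrum.Prime.Module
import Mathlib.RingTheory.OrzechProperty
import Mathlib.RingTheory.Flat.Localization
import Mathlib.Algebra.Module.LocalizedModule.Exact

set_option autoImplicit false
universe u
open PrimeSpectrum

namespace Groth.Agent.Pure3

variable {R : Type u} [CommRing R]

lemma stable_of_pure (I : Ideal R) (hI : I.Pure) :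
    StableUnderGeneralization (zeroLocus (I : Set R)) := by
  intro q p hpq hq x hx
  have h0 := Ideal.le_ker_atPrime_of_forall_exists_eq_mul
    (fun y hy => Ideal.exists_eq_mul_of_pure hy) (p := q.asIdeal) hq hx
  rw [RingHom.mem_ker, IsLocalization.map_eq_zero_iff q.asIdeal.primeCompl] at h0
  obtain ⟨⟨u, hu⟩, hux⟩ := h0
  have hle : p.asIdeal ≤ q.asIdeal := (le_iff_specializes p q).mpr hpq
  exact (p.isPrime.mem_or_mem (hux ▸ p.asIdeal.zero_mem : u * x ∈ p.asIdeal)).resolve_left
    fun h => hu (hle h)

lemma exists_pure (Z : Set (PrimeSpectrum R)) (hc : IsClosed Z) (hs : StableUnderGeneralization Z) :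
    ∃ I : Ideal R, I.Pure ∧ zeroLocus (I : Set R) = Z := by
  obtain ⟨J, rfl⟩ := (isClosed_iff_zeroLocus_ideal Z).mp hc
  let S : Submonoid R := MonoidHom.mker (Ideal.Quotient.mk J).toMonoidHom
  let L := Localization S
  have hS : ∀ s : R, s ∈ S ↔ s - 1 ∈ J := fun s => by
    rw [← Ideal.Quotient.eq]
    simp [S, MonoidHom.mem_mker]
  have hdisj : ∀ p : Ideal R, p.IsPrime → Disjoint (S : Set R) p → J ≤ p := by
    intro p hp hd
    have hne : p ⊔ J ≠ ⊤ := by
      intro h
      obtain ⟨a, ha, j, hj, haj⟩ := Submodule.mem_sup.mp ((Ideal.eq_top_iff_one _).mp h)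
      refine Set.disjoint_left.mp hd ((hS a).mpr ?_) ha
      rw [show a - 1 = -j by rw [← haj]; ring]
      exact J.neg_mem hj
    obtain ⟨q, hq, hle⟩ := Ideal.exists_le_maximal _ hne
    have hqZ : (⟨q, hq.isPrime⟩ : PrimeSpectrum R) ∈ zeroLocus (J : Set R) := le_sup_right.trans hle
    exact hs ((le_iff_specializes (⟨p, hp⟩ : PrimeSpectrum R) ⟨q, hq.isPrime⟩).mp
      (le_sup_left.trans hle)) hqZ
  have hnil : ∀ j ∈ J, IsNilpotent (algebraMap R L j) := by
    intro j hj
    rw [nilpotent_iff_mem_prime]
    intro P hP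
    have h := (IsLocalization.isPrime_iff_isPrime_disjoint S L P).mp hP
    exact hdisj _ h.1 h.2 hj
  have hsurj : Function.Surjective (Algebra.linearMap R L) := by
    intro z
    obtain ⟨⟨r, s⟩, h⟩ := IsLocalization.surj S z
    let T := (algebraMap R L).range
    let j : T := ⟨algebraMap R L ((s : R) - 1), _, rfl⟩
    have hj : IsNilpotent j := by
      obtain ⟨k, hk⟩ := hnil _ ((hS _).mp s.2)
      exact ⟨k, Subtype.ext hk⟩
    obtain ⟨v, hv⟩ := hj.isUnit_one_add.exists_left_inv
    obtain ⟨w, hw⟩ := v.2
    refine ⟨r * w, ?_⟩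
    have hv' : algebraMap R L w * algebraMap R L (s : R) = 1 := by
      have := congrArg Subtype.val hv
      simpa [j, ← hw, map_sub] using this
    simp only [Algebra.linearMap_apply, map_mul, ← h]
    rw [mul_assoc, mul_comm (algebraMap R L (s : R)), hv', mul_one]
  refine ⟨LinearMap.ker (Algebra.linearMap R L), ?_, ?_⟩
  · have : Module.Flat R L := IsLocalization.flat L S
    exact Module.Flat.of_linearEquiv ((Algebra.linearMap R L).quotKerEquivOfSurjective hsurj)
  · ext p
    constructor
    · intro hp
      refine hdisj _ p.isPrime (Set.disjoint_left.mpr fun s hsS hsp => ?_)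
      obtain ⟨w, hw⟩ := hsurj (IsLocalization.mk' L (1 : R) ⟨s, hsS⟩)
      have : 1 - w * s ∈ LinearMap.ker (Algebra.linearMap R L) := by
        rw [LinearMap.mem_ker, map_sub, sub_eq_zero]
        simp only [Algebra.linearMap_apply, map_mul, map_one] at hw ⊢
        rw [hw, IsLocalization.mk'_spec L (1 : R) (⟨s, hsS⟩ : S), map_one]
      exact p.isPrime.one_notMem (sub_add_cancel (1 : R) (w * s) ▸
        p.asIdeal.add_mem (hp this) (p.asIdeal.mul_mem_left w hsp))
    · intro hp x hx
      rw [SetLike.mem_coe, LinearMap.mem_ker, Algebra.linearMap_apply,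
        IsLocalization.map_eq_zero_iff S] at hx
      obtain ⟨⟨u, hu⟩, hux⟩ := hx
      refine (p.isPrime.mem_or_mem (hux ▸ p.asIdeal.zero_mem : u * x ∈ p.asIdeal)).resolve_left
        fun h => p.isPrime.one_notMem ?_
      simpa using p.asIdeal.sub_mem h (hp ((hS u).mp hu))

lemma eq_span_idempotent_of_isOpen (I : Ideal R) [I.Pure] (ho : IsOpen (zeroLocus (I : Set R))) :
    ∃ e : R, IsIdempotentElem e ∧ I = Ideal.span {e} := by
  obtain ⟨e, he, h⟩ := (isClopen_iff_zeroLocus).mp ⟨isClosed_zeroLocus _, ho⟩
  have : (Ideal.span {e}).Pure := Ideal.Pure.of_isIdempotentElem (Submodule.fg_span_singleton e)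
    (by rw [IsIdempotentElem, Ideal.span_singleton_mul_span_singleton, he.eq])
  exact ⟨e, he, Ideal.zeroLocus_inj_of_pure.mp (by rw [h, zeroLocus_span])⟩

lemma projective_quotient_of_idempotent {e : R} (he : IsIdempotentElem e) :
    Module.Projective R (R ⧸ Ideal.span {e}) := by
  have : (Ideal.span {e}).Pure := Ideal.Pure.of_isIdempotentElem (Submodule.fg_span_singleton e)
    (by rw [IsIdempotentElem, Ideal.span_singleton_mul_span_singleton, he.eq])
  have : Module.FinitePresentation R (R ⧸ Ideal.span {e}) :=
    Module.finitePresentation_of_surjective (Ideal.span {e}).mkQ (Submodule.mkQ_surjective _)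
      (by rw [Submodule.ker_mkQ]; exact Submodule.fg_span_singleton e)
  exact Module.Flat.projective_of_finitePresentation

section Rank

variable {M : Type u} [AddCommGroup M] [Module R M] [Module.Finite R M] [Module.Flat R M]

lemma exists_open_surjective (p : PrimeSpectrum R) :
    ∃ (φ : (Fin (Module.rankAtStalk M p) → R) →ₗ[R] M) (U : Set (PrimeSpectrum R)),
      IsOpen U ∧ p ∈ U ∧ U ⊆ (Module.support R (M ⧸ LinearMap.range φ))ᶜ ∧
      ∀ q ∈ U, Function.Surjective (LocalizedModule.map q.asIdeal.primeCompl φ) := by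
  classical
  have : Module.Free (Localization.AtPrime p.asIdeal) (LocalizedModule p.asIdeal.primeCompl M) :=
    Module.free_of_flat_of_isLocalRing
  let b := Module.finBasis (Localization.AtPrime p.asIdeal) (LocalizedModule p.asIdeal.primeCompl M)
  choose ms hms using fun k =>
    IsLocalizedModule.surj p.asIdeal.primeCompl
      (LocalizedModule.mkLinearMap p.asIdeal.primeCompl M) (b k)
  let φ : (Fin (Module.rankAtStalk M p) → R) →ₗ[R] M :=
    Fintype.linearCombination R fun k => (ms k).1
  have hp : p ∈ (Module.support R (M ⧸ LinearMap.range φ))ᶜ := by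
    rw [Set.mem_compl_iff, Module.notMem_support_iff']
    intro x
    obtain ⟨x, rfl⟩ := Submodule.Quotient.mk_surjective _ x
    have key : ∀ y : LocalizedModule p.asIdeal.primeCompl M, ∃ s ∈ p.asIdeal.primeCompl,
        ∃ z ∈ LinearMap.range φ, s • y = LocalizedModule.mkLinearMap p.asIdeal.primeCompl M z := by
      intro y
      induction (b.mem_span y) using Submodule.span_induction with
      | mem w hw =>
        obtain ⟨k, rfl⟩ := hw
        exact ⟨(ms k).2, (ms k).2.2, (ms k).1, ⟨Pi.single k 1, (Fintype.linearCombination_apply_single R (fun k => (ms k).1) k 1).trans (one_smul R _)⟩, hms k⟩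
      | zero => exact ⟨1, Submonoid.one_mem _, 0, zero_mem _, by simp⟩
      | add a c _ _ ha hc =>
        obtain ⟨s, hs, z, hz, h⟩ := ha
        obtain ⟨s', hs', z', hz', h'⟩ := hc
        refine ⟨s * s', mul_mem hs hs', s' • z + s • z',
          add_mem (Submodule.smul_mem _ _ hz) (Submodule.smul_mem _ _ hz'), ?_⟩
        rw [map_add, map_smul, map_smul, ← h, ← h', smul_smul, smul_smul, smul_add, mul_comm s' s]
      | smul a w _ hw =>
        obtain ⟨s, hs, z, hz, h⟩ := hw
        obtain ⟨⟨r, t⟩, ha⟩ := IsLocalization.surj p.asIdeal.primeCompl a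
        refine ⟨t * s, mul_mem t.2 hs, r • z, Submodule.smul_mem _ _ hz, ?_⟩
        rw [map_smul, ← h, ← algebraMap_smul (Localization.AtPrime p.asIdeal) r,
          ← algebraMap_smul (Localization.AtPrime p.asIdeal) ((t : R) * s),
          ← algebraMap_smul (Localization.AtPrime p.asIdeal) s w, ← ha, map_mul, smul_smul,
          smul_smul]
        congr 1
        ring
    obtain ⟨s, hs, z, hz, h⟩ := key (LocalizedModule.mkLinearMap p.asIdeal.primeCompl M x)
    rw [← map_smul, IsLocalizedModule.eq_iff_exists p.asIdeal.primeCompl] at h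
    obtain ⟨t, ht⟩ := h
    refine ⟨(t : R) * s, mul_mem t.2 hs, ?_⟩
    rw [← Submodule.Quotient.mk_smul, Submodule.Quotient.mk_eq_zero, ← smul_smul,
      show (t : R) • s • x = (t : R) • z from ht]
    exact Submodule.smul_mem _ _ hz
  refine ⟨φ, _, (Module.isClosed_support (R := R) (M := M ⧸ LinearMap.range φ)).isOpen_compl, hp,
    subset_rfl, fun q hq => ?_⟩
  rw [Set.mem_compl_iff, Module.notMem_support_iff] at hq
  intro y
  exact (LocalizedModule.map_exact q.asIdeal.primeCompl _ _ (LinearMap.exact_map_mkQ_range φ) y).1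
    (Subsingleton.elim _ _)

lemma finrank_localized_fin (n : ℕ) (q : PrimeSpectrum R) :
    Module.finrank (Localization.AtPrime q.asIdeal)
      (LocalizedModule q.asIdeal.primeCompl (Fin n → R)) = n := by
  have : Nontrivial R := ⟨⟨0, 1, fun h => q.isPrime.one_notMem (h ▸ q.asIdeal.zero_mem)⟩⟩
  have h := congrFun (Module.rankAtStalk_eq_finrank_of_free (R := R) (M := Fin n → R)) q
  simpa [Module.rankAtStalk] using h

lemma rank_le_of_surjective {n : ℕ} (φ : (Fin n → R) →ₗ[R] M) (q : PrimeSpectrum R)
    (h : Function.Surjective (LocalizedModule.map q.asIdeal.primeCompl φ)) :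
    Module.rankAtStalk M q ≤ n := by
  rw [← finrank_localized_fin n q]
  exact LinearMap.finrank_le_finrank_of_surjective h

lemma injective_of_rank_eq {n : ℕ} (φ : (Fin n → R) →ₗ[R] M) (q : PrimeSpectrum R)
    (h : Function.Surjective (LocalizedModule.map q.asIdeal.primeCompl φ))
    (hn : Module.rankAtStalk M q = n) :
    Function.Injective (LocalizedModule.map q.asIdeal.primeCompl φ) := by
  have : Module.Free (Localization.AtPrime q.asIdeal) (LocalizedModule q.asIdeal.primeCompl M) :=
    Module.free_of_flat_of_isLocalRing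
  have : Module.Free (Localization.AtPrime q.asIdeal)
      (LocalizedModule q.asIdeal.primeCompl (Fin n → R)) :=
    Module.free_of_flat_of_isLocalRing
  let e : LocalizedModule q.asIdeal.primeCompl M ≃ₗ[Localization.AtPrime q.asIdeal]
      LocalizedModule q.asIdeal.primeCompl (Fin n → R) :=
    LinearEquiv.ofFinrankEq _ _ (by rw [finrank_localized_fin]; exact hn)
  have := OrzechProperty.injective_of_surjective_endomorphism
    (e.toLinearMap ∘ₗ LocalizedModule.map q.asIdeal.primeCompl φ) (e.surjective.comp h)
  exact Function.Injective.of_comp this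

lemma projective_of_stable_open
    (hR : ∀ Z : Set (PrimeSpectrum R), IsClosed Z → StableUnderGeneralization Z → IsOpen Z) :
    Module.Projective R M := by
  classical
  have hlc : ∀ p : PrimeSpectrum R, IsOpen {q : PrimeSpectrum R | Module.rankAtStalk M q = Module.rankAtStalk M p} := by
    have hle : ∀ k, IsOpen {q : PrimeSpectrum R | Module.rankAtStalk M q ≤ k} := by
      intro k
      rw [isOpen_iff_forall_mem_open]
      intro x hx
      obtain ⟨φ, U, hU, hxU, -, hsurj⟩ := exists_open_surjective (M := M) x
      exact ⟨U, fun q hq => (rank_le_of_surjective φ q (hsurj q hq)).trans hx, hU, hxU⟩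
    have hge : ∀ k, IsOpen {q : PrimeSpectrum R | k ≤ Module.rankAtStalk M q} := by
      intro k
      rcases k with _ | k
      · simp
      apply hR
      · rw [show {q : PrimeSpectrum R | k + 1 ≤ Module.rankAtStalk M q}
          = {q | Module.rankAtStalk M q ≤ k}ᶜ by ext q; simp]
        exact (hle k).isClosed_compl
      · intro q p hpq hq
        show k + 1 ≤ Module.rankAtStalk M p
        rwa [Module.rankAtStalk_eq_of_le_of_finite_of_flat M ((le_iff_specializes p q).mpr hpq)]
    intro p
    rw [show {q : PrimeSpectrum R | Module.rankAtStalk M q = Module.rankAtStalk M p} =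
        {q | Module.rankAtStalk M q ≤ Module.rankAtStalk M p} ∩
          {q | Module.rankAtStalk M p ≤ Module.rankAtStalk M q} by ext q; simp [le_antisymm_iff]]
    exact (hle _).inter (hge _)
  obtain ⟨N, π, hπ⟩ := Module.Finite.exists_fin' R M
  suffices hK : (LinearMap.ker π).FG by
    have := Module.finitePresentation_of_surjective π hπ hK
    exact Module.Flat.projective_of_finitePresentation
  let t : Set R := {f | Module.Finite (Localization.Away f)
    (LocalizedModule (Submonoid.powers f) (LinearMap.ker π))}
  rw [← Module.Finite.iff_fg]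
  refine Module.Finite.of_localizationSpan t ?_ fun g => g.2
  by_contra hne
  obtain ⟨m, hm, hle⟩ := Ideal.exists_le_maximal _ hne
  let p : PrimeSpectrum R := ⟨m, hm.isPrime⟩
  obtain ⟨φ, U, hU, hpU, hUC, hsurj⟩ := exists_open_surjective (M := M) p
  obtain ⟨f, hfp, hfsub⟩ : ∃ f : R, f ∉ m ∧
      (basicOpen f : Set (PrimeSpectrum R)) ⊆ U ∩ {q | Module.rankAtStalk M q = Module.rankAtStalk M p} := by
    obtain ⟨_, ⟨f, rfl⟩, hfp, hsub⟩ := isTopologicalBasis_basic_opens.exists_subset_of_mem_open
      (show p ∈ U ∩ {q | Module.rankAtStalk M q = Module.rankAtStalk M p} from ⟨hpU, rfl⟩)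
      (hU.inter (hlc p))
    exact ⟨f, hfp, hsub⟩
  refine hfp (hle (Ideal.subset_span (show f ∈ t from ?_)))
  have h1 : Subsingleton (LocalizedModule (Submonoid.powers f) (M ⧸ LinearMap.range φ)) :=
    LocalizedModule.subsingleton_iff_disjoint.mpr
      (Set.disjoint_left.mpr fun q hq => hUC (hfsub hq).1)
  have h2 : Subsingleton (LocalizedModule (Submonoid.powers f) (LinearMap.ker φ)) := by
    refine LocalizedModule.subsingleton_iff_disjoint.mpr (Set.disjoint_left.mpr fun q hq => ?_)
    rw [Module.notMem_support_iff]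
    have hinj := injective_of_rank_eq φ q (hsurj q (hfsub hq).1) (hfsub hq).2
    refine subsingleton_of_forall_eq 0 fun y => ?_
    have hi : Function.Injective
        (LocalizedModule.map q.asIdeal.primeCompl (LinearMap.ker φ).subtype) :=
      LocalizedModule.map_injective _ _ (Submodule.injective_subtype _)
    apply hi
    apply hinj
    rw [map_zero, map_zero]
    exact (LocalizedModule.map_exact q.asIdeal.primeCompl _ _
      (LinearMap.exact_subtype_ker_map φ) _).2 ⟨y, rfl⟩
  have hbij : Function.Bijective (LocalizedModule.map (Submonoid.powers f) φ) := by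
    constructor
    · refine (injective_iff_map_eq_zero _).mpr fun y hy => ?_
      obtain ⟨z, rfl⟩ := (LocalizedModule.map_exact (Submonoid.powers f) _ _
        (LinearMap.exact_subtype_ker_map φ) y).1 hy
      rw [Subsingleton.elim z 0, map_zero]
    · intro y
      exact (LocalizedModule.map_exact (Submonoid.powers f) _ _ (LinearMap.exact_map_mkQ_range φ) y).1
        (Subsingleton.elim _ _)
  have : Module.Projective (Localization.Away f)
      (LocalizedModule (Submonoid.powers f) (Fin (Module.rankAtStalk M p) → R)) :=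
    Module.Projective.of_equiv (LocalizedModule.equivTensorProduct _ _).symm
  have : Module.Projective (Localization.Away f) (LocalizedModule (Submonoid.powers f) M) :=
    Module.Projective.of_equiv (LinearEquiv.ofBijective _ hbij)
  let Pf := LocalizedModule.map (Submonoid.powers f) π
  have hPf : Function.Surjective Pf := LocalizedModule.map_surjective _ _ hπ
  obtain ⟨s, hs⟩ := Module.projective_lifting_property Pf LinearMap.id hPf
  let ι := LocalizedModule.map (Submonoid.powers f) (LinearMap.ker π).subtype
  have hι : Function.Injective ι := LocalizedModule.map_injective _ _ (Submodule.injective_subtype _)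
  have hex := LocalizedModule.map_exact (Submonoid.powers f) _ _ (LinearMap.exact_subtype_ker_map π)
  let P := LinearMap.id - s ∘ₗ Pf
  have hP : ∀ y, P y ∈ LinearMap.range ι := fun y => (hex _).1 (by
    show Pf (y - s (Pf y)) = 0
    rw [map_sub, ← LinearMap.comp_apply Pf s, hs, LinearMap.id_apply, sub_self])
  let P' := (LinearEquiv.ofInjective ι hι).symm.toLinearMap ∘ₗ P.codRestrict (LinearMap.range ι) hP
  refine Module.Finite.of_surjective P' fun z => ⟨ι z, hι ?_⟩
  have h3 : ι (P' (ι z)) = P (ι z) := by
    have := congrArg Subtype.val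
      ((LinearEquiv.ofInjective ι hι).apply_symm_apply (P.codRestrict _ hP (ι z)))
    simpa [P', LinearEquiv.ofInjective_apply] using this
  have h4 : Pf (ι z) = 0 := (hex _).2 ⟨z, rfl⟩
  rw [h3]
  simp [P, h4]

end Rank

end Groth.Agent.Pure3
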